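import Groth.Agent.AVQuotLib.GrpDesc
import Groth.Agent.AssLib.FlatField
import Groth.Agent.AlgSpDec.ActQuotient
import Groth.Agent.SrcDescent.SchemeFppf
import Groth.Agent.QCoh.ProperOver
import Groth.Agent.FBaseLib.Basic
import Groth.Agent.H23.MaxAbelian
import Groth.Agent.Lib.AVMulN
import Groth.Agent.AVSplitLib.Retraction

/-! The quotient of an abelian variety by a finite subgroup scheme. -/

noncomputable section

universe u

set_option linter.style.haveILetI false
set_option linter.unusedSectionVars false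
set_option backward.isDefEq.respectTransparency false
set_option backward.isDefEq.respectTransparency.types false
set_option maxHeartbeats 1000000
set_option synthInstance.maxHeartbeats 200000

open CategoryTheory CategoryTheory.Limits MonoidalCategory CartesianMonoidalCategory AlgebraicGeometry
open scoped MonObj

namespace Groth.Agent.AVQuotLib

open Groth.Agent Groth.Agent.AlgSpDec

variable {k : Type u} [Field k] {A N : Over (Spec (CommRingCat.of k))} [GrpObj A] [IsProper A.hom]
  [GeometricallyIntegral A.hom] [GrpObj N]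

theorem geometricallyIntegral_of_flat_surjective {X Y : Over (Spec (CommRingCat.of k))}
    [GeometricallyIntegral X.hom] (f : X ⟶ Y) [Flat f.left] [Surjective f.left] :
    GeometricallyIntegral Y.hom := by
  refine H23.MaxAbelian.geometricallyIntegral_of_pullback _ fun L _ x => ?_
  haveI : IsIntegral (pullback X.hom x) :=
    GeometricallyIntegral.isIntegral_of_subsingleton (pullback.snd X.hom x)
  let g : pullback X.hom x ⟶ pullback Y.hom x :=
    pullback.map X.hom x Y.hom x f.left (𝟙 _) (𝟙 _) (by rw [Category.comp_id]; exact (Over.w f).symm) (by simp)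
  haveI : MorphismProperty.IsStableUnderComposition @Surjective := ⟨fun f g _ _ => inferInstance⟩
  haveI : Flat g := MorphismProperty.pullbackMap (P := @Flat) (inferInstanceAs (Flat f.left))
    (inferInstanceAs (Flat (𝟙 _))) (Over.w f).symm (Category.id_comp x).symm
  haveI : Surjective g := MorphismProperty.pullbackMap (P := @Surjective) (inferInstanceAs (Surjective f.left))
    (inferInstanceAs (Surjective (𝟙 _))) (Over.w f).symm (Category.id_comp x).symm
  haveI : IsReduced (pullback Y.hom x) := FBaseLib.isReduced_of_flat_surjective g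
  haveI : IrreducibleSpace ↥(pullback Y.hom x) :=
    Function.Surjective.irreducibleSpace g.continuous g.surjective
  exact isIntegral_of_irreducibleSpace_of_isReduced _

/-- Translation by a subgroup. -/
def translation (i : N ⟶ A) [IsMonHom i] : AlgGrp.Action N A where
  act := (fst N A ≫ i) * snd N A
  one_act := by
    rw [MonObj.comp_mul, ← Category.assoc, whiskerRight_fst, whiskerRight_snd, Category.assoc,
      IsMonHom.one_hom (f := i), MonObj.one_eq_one, MonObj.comp_one, _root_.one_mul, leftUnitor_hom]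
  mul_act := by
    rw [MonObj.comp_mul, whiskerRight_snd, ← Category.assoc, whiskerRight_fst, Category.assoc,
      IsMonHom.mul_hom (f := i)]
    have e : μ[A] = fst A A * snd A A := by rw [Hom.mul_def, lift_fst_snd, Category.id_comp]
    rw [e]
    simp [MonObj.comp_mul, mul_assoc]

/-- The quotient of an abelian variety by a finite subgroup scheme with orbits in affine opens. -/
theorem exists_quotient_of_orbit [IsFinite N.hom] (i : N ⟶ A) [IsMonHom i] [IsClosedImmersion i.left]
    (h3 : ∀ Z : Set ↥A.left, IsClosed Z → Z.Nonempty → ∃ u ∈ Z, ∃ W : A.left.Opens, IsAffineOpen W ∧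
      ∀ r : (N ⊗ A).left, (snd N A).left r = u → ((fst N A ≫ i) * snd N A).left r ∈ W) :
    ∃ (C : Over (Spec (CommRingCat.of k))) (_ : GrpObj C) (q : A ⟶ C),
      IsProper C.hom ∧ GeometricallyIntegral C.hom ∧ IsMonHom q ∧ IsFinite q.left ∧ Flat q.left ∧
      Surjective q.left ∧ i ≫ q = 1 ∧
      ∀ (T : Over (Spec (CommRingCat.of k))) (a : T ⟶ A), a ≫ q = 1 → ∃ b : T ⟶ N, b ≫ i = a := by
  haveI : IsCommMonObj A := isCommMonObj_of_isProper_of_geometricallyIntegral A
  haveI : Mono i := Over.mono_of_mono_left i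
  let a := translation i
  haveI : Flat N.hom := AssLib.flat_over_field N.hom
  haveI : IsLocallyNoetherian (Spec (CommRingCat.of k)) := inferInstance
  have hG : Mor2.IsFinLocFree N.hom := ⟨inferInstance, inferInstance, inferInstance⟩
  have hs : Mor2.IsFinLocFree (ActGroupoid.gpd a).s :=
    ⟨MorphismProperty.pullback_snd (P := @IsFinite) _ _ hG.1,
      MorphismProperty.pullback_snd (P := @Flat) _ _ hG.2.1,
      MorphismProperty.pullback_snd (P := @LocallyOfFinitePresentation) _ _ hG.2.2⟩
  have hact : a.act = (fst N A ≫ i) * snd N A := rfl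
  have hfree : ∀ (T : Over (Spec (CommRingCat.of k))) (g : T ⟶ N) (x : T ⟶ A),
      lift g x ≫ a.act = x → g = toUnit T ≫ η[N] := fun T g x h => by
    rw [hact, MonObj.comp_mul, ← Category.assoc, lift_fst, lift_snd, mul_eq_right] at h
    rw [← cancel_mono i, h, Category.assoc, IsMonHom.one_hom (f := i)]
    rfl
  obtain ⟨C, q, hq, hqs, hpb, -⟩ := FinLocFreeQuot.exists_quotient (ActGroupoid.gpd a) hs
    (ActQuotient.isEqvRel a hfree) h3
  let q : A ⟶ C := q
  haveI hqf : IsFinite q.left := hq.1
  haveI hqfl : Flat q.left := hq.2.1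
  haveI : LocallyOfFinitePresentation q.left := hq.2.2
  haveI : Surjective q.left := hqs
  have hpb : CategoryTheory.IsPullback a.act.left (snd N A).left q.left q.left := hpb
  have hrel : ∀ (T : Over (Spec (CommRingCat.of k))) (x y : T ⟶ A),
      x ≫ q = y ≫ q ↔ ∃ b : T ⟶ N, x = (b ≫ i) * y := by
    intro T x y
    constructor
    · intro h
      let l : T.left ⟶ (N ⊗ A).left := hpb.lift x.left y.left (congrArg CommaMorphism.left h)
      have hl1 : l ≫ a.act.left = x.left := hpb.lift_fst _ _ _
      have hl2 : l ≫ (snd N A).left = y.left := hpb.lift_snd _ _ _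
      let L : T ⟶ N ⊗ A := Over.homMk l (by
        rw [← Over.w (snd N A), ← Category.assoc, hl2, Over.w y])
      have h1 : L ≫ a.act = x := Over.OverMorphism.ext hl1
      have h2 : L ≫ snd N A = y := Over.OverMorphism.ext hl2
      exact ⟨L ≫ fst N A, by rw [← h1, hact, MonObj.comp_mul, h2, Category.assoc]⟩
    · rintro ⟨b, rfl⟩
      have hw : a.act ≫ q = snd N A ≫ q := Over.OverMorphism.ext hpb.w
      have h4 := congrArg (fun φ => lift b y ≫ φ) hw
      simp only [← Category.assoc, hact, MonObj.comp_mul, lift_fst, lift_snd] at h4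
      exact h4
  haveI : QuasiCompact q.left := inferInstance
  have hcov : Cov q := ⟨inferInstance, inferInstance, inferInstance⟩
  obtain ⟨GC, hqh⟩ := exists_grpObj hcov
    (fun T x x' y y' hx hy => by
      obtain ⟨b, rfl⟩ := (hrel T x x').1 hx
      obtain ⟨c, rfl⟩ := (hrel T y y').1 hy
      exact (hrel T _ _).2 ⟨b * c, by rw [MonObj.mul_comp, mul_mul_mul_comm]⟩)
    (fun T x x' hx => by
      obtain ⟨b, rfl⟩ := (hrel T x x').1 hx
      exact (hrel T _ _).2 ⟨b⁻¹, by rw [GrpObj.inv_comp, mul_inv]⟩)
  haveI := hqh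
  haveI : IsProper (q.left ≫ C.hom) := by rw [Over.w q]; infer_instance
  haveI : LocallyOfFiniteType C.hom := SrcDescent.locallyOfFiniteType_of_fppf_comp q.left C.hom
  haveI : IsProper C.hom := QCoh.isProper_of_comp_surjective q.left C.hom
  refine ⟨C, GC, q, inferInstance, geometricallyIntegral_of_flat_surjective q, hqh, hqf, hqfl, inferInstance, ?_,
    fun T x hx => ?_⟩
  · rw [← MonObj.one_comp (f := q) (X := N), hrel]
    exact ⟨𝟙 N, by simp⟩
  · obtain ⟨b, hb⟩ := (hrel T x 1).1 (by rw [hx, MonObj.one_comp])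
    exact ⟨b, by rw [hb, _root_.mul_one]⟩

/-- The quotient of an abelian variety by a finite subgroup scheme killed by a multiplication. -/
theorem exists_quotient [IsFinite N.hom] (i : N ⟶ A) [IsMonHom i] [IsClosedImmersion i.left] (n : ℕ) (hn : 1 ≤ n)
    (hkill : i ≫ (𝟙 A ^ n : A ⟶ A) = 1) :
    ∃ (C : Over (Spec (CommRingCat.of k))) (_ : GrpObj C) (q : A ⟶ C),
      IsProper C.hom ∧ GeometricallyIntegral C.hom ∧ IsMonHom q ∧ IsFinite q.left ∧ Flat q.left ∧
      Surjective q.left ∧ i ≫ q = 1 ∧
      ∀ (T : Over (Spec (CommRingCat.of k))) (a : T ⟶ A), a ≫ q = 1 → ∃ b : T ⟶ N, b ≫ i = a := by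
  haveI : IsCommMonObj A := isCommMonObj_of_isProper_of_geometricallyIntegral A
  let a := translation i
  have hact : a.act = (fst N A ≫ i) * snd N A := rfl
  let p : A ⟶ A := 𝟙 A ^ n
  haveI : IsFinite p.left := AVMulN.isFinite_pow (A := A) n hn
  have hinv : a.act ≫ p = snd N A ≫ p := by
    show a.act ≫ (𝟙 A ^ n) = _
    rw [MonObj.comp_pow, MonObj.comp_pow, Category.comp_id, Category.comp_id, hact, mul_pow]
    have h1 : (fst N A ≫ i) ^ n = 1 := by
      have := congrArg (fun φ => fst N A ≫ φ) hkill
      simpa [MonObj.comp_pow, MonObj.comp_one] using this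
    rw [h1, _root_.one_mul]
  refine exists_quotient_of_orbit i ?_
  show ∀ Z : Set ↥A.left, IsClosed Z → Z.Nonempty →
      ∃ u ∈ Z, ∃ W : A.left.Opens, IsAffineOpen W ∧ ∀ r : (N ⊗ A).left, (snd N A).left r = u → a.act.left r ∈ W
  rintro Z - ⟨u, hu⟩
  obtain ⟨V, hV, hpV⟩ := GrpdLib.exists_affineOpen_mem (p.left u)
  refine ⟨u, hu, p.left ⁻¹ᵁ V, hV.preimage p.left, fun r hr => ?_⟩
  show p.left (a.act.left r) ∈ V
  have := congrArg (fun φ : (N ⊗ A) ⟶ A => φ.left r) hinv
  simp only [Over.comp_left, Scheme.Hom.comp_apply] at this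
  rw [this, hr]
  exact hpV

end Groth.Agent.AVQuotLib
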