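import Groth.Agent.AVSubLib.FppfFactor
import Mathlib.CategoryTheory.Monoidal.Cartesian.Over

/-! A group structure descends along an fpqc morphism whose fibres are stable under the group law. -/

noncomputable section

universe u

set_option linter.style.haveILetI false
set_option linter.unusedSectionVars false
set_option backward.isDefEq.respectTransparency false
set_option backward.isDefEq.respectTransparency.types false
set_option maxHeartbeats 1000000

open CategoryTheory CategoryTheory.Limits MonoidalCategory CartesianMonoidalCategory AlgebraicGeometry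
open scoped MonObj

namespace Groth.Agent.AVQuotLib

variable {S : Scheme.{u}}

/-- The fpqc morphisms. -/
def Cov {X Y : Over S} (q : X ⟶ Y) : Prop := QuasiCompact q.left ∧ Flat q.left ∧ Surjective q.left

theorem Cov.tensor {X Y X' Y' : Over S} {q : X ⟶ Y} {q' : X' ⟶ Y'} (h : Cov q) (h' : Cov q') : Cov (q ⊗ₘ q') := by
  haveI : MorphismProperty.IsStableUnderComposition @Surjective := ⟨fun f g _ _ => inferInstance⟩
  exact ⟨MorphismProperty.pullbackMap (P := @QuasiCompact) h.1 h'.1 (Over.w q).symm (Over.w q').symm,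
    MorphismProperty.pullbackMap (P := @Flat) h.2.1 h'.2.1 (Over.w q).symm (Over.w q').symm,
    MorphismProperty.pullbackMap (P := @Surjective) h.2.2 h'.2.2 (Over.w q).symm (Over.w q').symm⟩

theorem Cov.id (X : Over S) : Cov (𝟙 X) :=
  ⟨inferInstanceAs (QuasiCompact (𝟙 X.left)), inferInstanceAs (Flat (𝟙 X.left)), inferInstanceAs (Surjective (𝟙 X.left))⟩

theorem Cov.epi {X Y : Over S} {q : X ⟶ Y} (h : Cov q) : Epi q := by
  haveI := h.1; haveI := h.2.1; haveI := h.2.2
  haveI : Epi q.left := Flat.epi_of_flat_of_surjective q.left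
  exact (Over.forget S).epi_of_epi_map (inferInstanceAs (Epi q.left))

/-- Morphisms descend along fpqc morphisms. -/
theorem Cov.exists_desc {X Y Z : Over S} {q : X ⟶ Y} (h : Cov q) (g : X ⟶ Z)
    (hg : ∀ (T : Over S) (a b : T ⟶ X), a ≫ q = b ≫ q → a ≫ g = b ≫ g) : ∃ g' : Y ⟶ Z, q ≫ g' = g := by
  haveI := h.1; haveI := h.2.1; haveI := h.2.2
  haveI : Epi q.left := Flat.epi_of_flat_of_surjective q.left
  have hagree : ∀ {W : Scheme.{u}} (g₁ g₂ : W ⟶ X.left), g₁ ≫ q.left = g₂ ≫ q.left → g₁ ≫ g.left = g₂ ≫ g.left := by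
    intro W g₁ g₂ e
    have hw : g₁ ≫ X.hom = g₂ ≫ X.hom := by rw [← Over.w q, ← Category.assoc, e, Category.assoc]
    exact congrArg CommaMorphism.left (hg (Over.mk (g₁ ≫ X.hom)) (Over.homMk g₁ rfl) (Over.homMk g₂ hw.symm)
      (Over.OverMorphism.ext e))
  let gl : Y.left ⟶ Z.left := EffectiveEpi.desc q.left g.left hagree
  have hgl : q.left ≫ gl = g.left := EffectiveEpi.fac q.left g.left hagree
  exact ⟨Over.homMk gl (by rw [← cancel_epi q.left, ← Category.assoc, hgl, Over.w, Over.w]),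
    Over.OverMorphism.ext hgl⟩

variable {A M : Over S} [GrpObj A] {q : A ⟶ M}

/-- Descent of a group law. -/
theorem exists_grpObj (h : Cov q)
    (hmul : ∀ (T : Over S) (a a' b b' : T ⟶ A), a ≫ q = a' ≫ q → b ≫ q = b' ≫ q → (a * b) ≫ q = (a' * b') ≫ q)
    (hinv : ∀ (T : Over S) (a a' : T ⟶ A), a ≫ q = a' ≫ q → a⁻¹ ≫ q = a'⁻¹ ≫ q) :
    ∃ _ : GrpObj M, IsMonHom q := by
  haveI := h.epi
  haveI := (h.tensor h).epi
  haveI := ((h.tensor h).tensor h).epi
  obtain ⟨m, hm⟩ := (h.tensor h).exists_desc (μ[A] ≫ q) fun T a b hab => by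
    have h1 : (a ≫ fst A A) ≫ q = (b ≫ fst A A) ≫ q := by
      simpa using congrArg (· ≫ fst M M) hab
    have h2 : (a ≫ snd A A) ≫ q = (b ≫ snd A A) ≫ q := by
      simpa using congrArg (· ≫ snd M M) hab
    have e : ∀ c : T ⟶ A ⊗ A, c ≫ μ[A] = (c ≫ fst A A) * (c ≫ snd A A) := fun c => by
      rw [Hom.mul_def, show lift (c ≫ fst A A) (c ≫ snd A A) = c from by apply CartesianMonoidalCategory.hom_ext <;> simp]
    rw [← Category.assoc, e, ← Category.assoc, e]
    exact hmul T _ _ _ _ h1 h2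
  obtain ⟨v, hv⟩ := h.exists_desc ((𝟙 A)⁻¹ ≫ q) fun T a b hab => by
    rw [← Category.assoc, GrpObj.comp_inv, Category.comp_id, ← Category.assoc, GrpObj.comp_inv, Category.comp_id]
    exact hinv T a b hab
  let one : 𝟙_ (Over S) ⟶ M := η[A] ≫ q
  have hone_mul : (one ▷ M) ≫ m = (λ_ M).hom := by
    haveI := ((Cov.id (𝟙_ (Over S))).tensor h).epi
    rw [← cancel_epi (𝟙 (𝟙_ (Over S)) ⊗ₘ q)]
    have e1 : (𝟙 (𝟙_ (Over S)) ⊗ₘ q) ≫ (one ▷ M) = (η[A] ▷ A) ≫ (q ⊗ₘ q) := by
      simp only [one]; apply CartesianMonoidalCategory.hom_ext <;>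
        simp [leftUnitor_hom, show fst (𝟙_ (Over S)) A = toUnit _ from toUnit_unique _ _]
    rw [← Category.assoc, e1, Category.assoc, hm, ← Category.assoc, MonObj.one_mul]
    simp
  have hmul_one : (M ◁ one) ≫ m = (ρ_ M).hom := by
    haveI := (h.tensor (Cov.id (𝟙_ (Over S)))).epi
    rw [← cancel_epi (q ⊗ₘ 𝟙 (𝟙_ (Over S)))]
    have e1 : (q ⊗ₘ 𝟙 (𝟙_ (Over S))) ≫ (M ◁ one) = (A ◁ η[A]) ≫ (q ⊗ₘ q) := by
      simp only [one]; apply CartesianMonoidalCategory.hom_ext <;>
        simp [rightUnitor_hom, show snd A (𝟙_ (Over S)) = toUnit _ from toUnit_unique _ _]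
    rw [← Category.assoc, e1, Category.assoc, hm, ← Category.assoc, MonObj.mul_one]
    simp
  have hassoc : (m ▷ M) ≫ m = (α_ M M M).hom ≫ (M ◁ m) ≫ m := by
    rw [← cancel_epi ((q ⊗ₘ q) ⊗ₘ q)]
    have e1 : ((q ⊗ₘ q) ⊗ₘ q) ≫ (m ▷ M) = (μ[A] ▷ A) ≫ (q ⊗ₘ q) := by
      apply CartesianMonoidalCategory.hom_ext
      · simp only [Category.assoc, whiskerRight_fst, tensorHom_fst, tensorHom_fst_assoc, whiskerRight_fst_assoc, hm]
      · simp only [Category.assoc, whiskerRight_snd, tensorHom_snd, whiskerRight_snd_assoc]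
    have e2 : ((q ⊗ₘ q) ⊗ₘ q) ≫ (α_ M M M).hom ≫ (M ◁ m) =
        ((α_ A A A).hom ≫ (A ◁ μ[A])) ≫ (q ⊗ₘ q) := by
      rw [associator_naturality_assoc, Category.assoc]
      congr 1
      apply CartesianMonoidalCategory.hom_ext
      · simp only [Category.assoc, whiskerLeft_fst, tensorHom_fst, whiskerLeft_fst_assoc]
      · simp only [Category.assoc, whiskerLeft_snd, tensorHom_snd, tensorHom_snd_assoc, whiskerLeft_snd_assoc, hm]
    rw [← Category.assoc, e1, ← Category.assoc (α_ M M M).hom, ← Category.assoc, e2, Category.assoc, hm,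
      Category.assoc, hm, ← Category.assoc, ← Category.assoc, MonObj.mul_assoc]
    simp only [Category.assoc]
  have hl : lift v (𝟙 M) ≫ m = toUnit M ≫ one := by
    rw [← cancel_epi q, ← Category.assoc, show q ≫ lift v (𝟙 M) = lift (𝟙 A)⁻¹ (𝟙 A) ≫ (q ⊗ₘ q) from by
      apply CartesianMonoidalCategory.hom_ext <;> simp [hv], Category.assoc, hm, ← Category.assoc, ← Hom.mul_def, inv_mul_cancel]
    simp [one, Hom.one_def]
  have hr : lift (𝟙 M) v ≫ m = toUnit M ≫ one := by
    rw [← cancel_epi q, ← Category.assoc, show q ≫ lift (𝟙 M) v = lift (𝟙 A) (𝟙 A)⁻¹ ≫ (q ⊗ₘ q) from by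
      apply CartesianMonoidalCategory.hom_ext <;> simp [hv], Category.assoc, hm, ← Category.assoc, ← Hom.mul_def, mul_inv_cancel]
    simp [one, Hom.one_def]
  let G : GrpObj M :=
    { one := one
      mul := m
      one_mul := hone_mul
      mul_one := hmul_one
      mul_assoc := hassoc
      inv := v
      left_inv := hl
      right_inv := hr }
  exact ⟨G, ⟨rfl, hm.symm⟩⟩

end Groth.Agent.AVQuotLib
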